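import Groth.Agent.Lib.PuncConic.Basic
import Groth.Prelude.Def_GmPts

/-!
# Group laws on the punctured line
-/

set_option autoImplicit false
set_option linter.style.haveILetI false
universe u

noncomputable section

open LaurentPolynomial

namespace Groth.Agent.GmLaw19

/-- A natural binary operation on units with a two-sided unit is a translate of multiplication. -/
theorem op_eq {k : Type u} [Field k] (F : ∀ (R : Type u) [CommRing R] [Algebra k R], Rˣ → Rˣ → Rˣ)
    (nat : ∀ (R S : Type u) [CommRing R] [Algebra k R] [CommRing S] [Algebra k S] (φ : R →ₐ[k] S) (a b : Rˣ),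
      Units.map φ.toRingHom.toMonoidHom (F R a b) = F S (Units.map φ.toRingHom.toMonoidHom a) (Units.map φ.toRingHom.toMonoidHom b))
    (e : kˣ)
    (hr : ∀ (R : Type u) [CommRing R] [Algebra k R] (a : Rˣ),
      F R a (Units.map (algebraMap k R).toMonoidHom e) = a)
    (hl : ∀ (R : Type u) [CommRing R] [Algebra k R] (b : Rˣ),
      F R (Units.map (algebraMap k R).toMonoidHom e) b = b)
    (R : Type u) [CommRing R] [Algebra k R] (a b : Rˣ) :
    F R a b = a * b * Units.map (algebraMap k R).toMonoidHom e⁻¹ := by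
  let A := k[T;T⁻¹]
  let U : (A[T;T⁻¹])ˣ := (isUnit_T (R := A) 1).unit
  let V : (A[T;T⁻¹])ˣ := ((isUnit_T (R := k) 1).map (C : A →+* A[T;T⁻¹])).unit
  obtain ⟨v, i, hv, hvi⟩ := PuncConic.exists_of_isUnit (F A[T;T⁻¹] U V).isUnit
  have hvu : IsUnit v := by
    have h := (F A[T;T⁻¹] U V).isUnit
    rw [hvi] at h
    have h2 := h.map (eval₂ (RingHom.id A) 1)
    simpa [eval₂_C_mul_T] using h2
  obtain ⟨c, j, hc, hcj⟩ := PuncConic.exists_of_isUnit hvu
  have hF : ∀ {S : Type u} [CommRing S] [Algebra k S] (x y : Sˣ),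
      (F S x y : S) = algebraMap k S c * (y ^ j : Sˣ).val * (x ^ i : Sˣ).val := by
    intro S _ _ x y
    let φ : A[T;T⁻¹] →ₐ[k] S :=
      { eval₂ (eval₂ (algebraMap k S) y) x with
        commutes' := fun r => by
          show eval₂ (eval₂ (algebraMap k S) y) x (algebraMap k A[T;T⁻¹] r) = _
          rw [IsScalarTower.algebraMap_apply k A A[T;T⁻¹], ← C_eq_algebraMap, eval₂_C, ← C_eq_algebraMap, eval₂_C] }
    have hU : Units.map φ.toRingHom.toMonoidHom U = x := by
      refine Units.ext ?_
      show eval₂ (eval₂ (algebraMap k S) y) x (T 1) = _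
      rw [eval₂_T, zpow_one]
    have hV : Units.map φ.toRingHom.toMonoidHom V = y := by
      refine Units.ext ?_
      show eval₂ (eval₂ (algebraMap k S) y) x (C (T 1)) = _
      rw [eval₂_C, eval₂_T, zpow_one]
    have h := congrArg Units.val (nat _ _ φ U V)
    rw [hU, hV] at h
    rw [← h]
    show eval₂ (eval₂ (algebraMap k S) y) x (F A[T;T⁻¹] U V : A[T;T⁻¹]) = _
    rw [hvi, hcj, eval₂_C_mul_T, eval₂_C_mul_T]
  let t : Aˣ := (isUnit_T (R := k) 1).unit
  have htj : ∀ n : ℤ, ((t ^ n : Aˣ) : A) = T n := by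
    intro n
    induction n using Int.induction_on with
    | zero => simp
    | succ m ih => rw [zpow_add, Units.val_mul, ih, zpow_one, T_add]; rfl
    | pred m ih =>
      rw [sub_eq_add_neg, zpow_add, Units.val_mul, ih, T_add]
      congr 1
      rw [zpow_neg_one]
      exact Units.inv_eq_of_mul_eq_one_right (by show T 1 * T (-1) = 1; rw [← T_add]; simp)
  have key : ∀ (d : k) (n : ℤ), C d * T n = (T 1 : A) → d = 1 ∧ n = 1 := by
    intro d n h
    have hd : d ≠ 0 := by
      rintro rfl
      rw [map_zero, zero_mul] at h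
      exact (isUnit_T (R := k) 1).ne_zero h.symm
    exact PuncConic.C_mul_T_inj hd (c' := 1) (by rw [map_one, one_mul]; exact h)
  have h1 : c * ((e ^ j : kˣ) : k) = 1 ∧ i = 1 := by
    refine key _ _ ?_
    have h := congrArg Units.val (hr A t)
    rw [hF, ← map_zpow, Units.coe_map, htj] at h
    rw [map_mul, C_eq_algebraMap, C_eq_algebraMap]
    exact h
  have h2 : c * ((e ^ i : kˣ) : k) = 1 ∧ j = 1 := by
    refine key _ _ ?_
    have h := congrArg Units.val (hl A t)
    rw [hF, ← map_zpow, Units.coe_map, htj] at h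
    rw [map_mul, C_eq_algebraMap, C_eq_algebraMap]
    have ht : (t : A) = T 1 := IsUnit.unit_spec _
    linear_combination h + ht
  obtain ⟨h1, rfl⟩ := h1
  obtain ⟨-, rfl⟩ := h2
  rw [zpow_one] at h1
  have hc' : c = ((e⁻¹ : kˣ) : k) := by
    rw [← Units.mul_left_inj e, h1, Units.inv_mul]
  refine Units.ext ?_
  rw [hF, zpow_one, zpow_one, hc', Units.val_mul, Units.val_mul, Units.coe_map]
  show algebraMap k R _ * _ * _ = _ * _ * algebraMap k R _
  ring

end Groth.Agent.GmLaw19
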